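import Cfsg.Agent.Lib.Helper6.TCD.J3C.SH
import Cfsg.Agent.Lib.Helper6.TCD.J3C.SC
import Cfsg.Agent.Lib.Helper6.TCD.J3C.NH
import Cfsg.Agent.Lib.Helper6.TCD.J3C.NC
import Cfsg.Agent.Lib.Helper6.TCD.J3C.WD
import Cfsg.Agent.Lib.Helper6.TCD.J3C.WI
set_option autoImplicit false
namespace Cfsg.Agent.Lib.Helper6.TCD.J3C
def n : Nat := 2
def ncol : Nat := 5
def nrw : Nat := 983
def nw : Nat := 983
def tmax : Nat := 11
def INV : Nat := 213280
def N : Nat := 1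
end Cfsg.Agent.Lib.Helper6.TCD.J3C
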